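import Cfsg.Agent.Spor.G24M.C0
import Cfsg.Agent.Spor.G1365.Grp
import Cfsg.Agent.Spor.MatChev
import Cfsg.Agent.S1059

set_option autoImplicit false
set_option maxRecDepth 100000000
set_option Elab.async false

namespace Cfsg.Agent.Spor.G24M

theorem rels : AllP (fun w => A.eqS TT w 1 = true) (Ctx.sqRL 6 G1365.RL) :=
  show AllP (fun w => A.eqS TT w 1 = true) [[0, 0], [2, 2], [4, 4], [6, 6], [8, 8], [10, 10], [0, 2, 0, 2, 0, 2, 0, 2, 0, 2], [0, 4, 0, 4], [0, 6, 0, 6], [0, 8, 0, 8], [0, 10, 0, 10], [2, 4, 2, 4, 2, 4], [2, 6, 2, 6], [2, 8, 2, 8], [2, 10, 2, 10, 2, 10], [4, 6, 4, 6, 4, 6, 4, 6, 4, 6, 4, 6, 4, 6, 4, 6], [4, 8, 4, 8], [4, 10, 4, 10], [6, 8, 6, 8, 6, 8], [6, 10, 6, 10], [8, 10, 8, 10], [0, 6, 4, 6, 4, 6, 4, 6, 4], [0, 2, 4, 10, 0, 2, 4, 10, 0, 2, 4, 10, 0, 2, 4, 10, 0, 2, 4, 10], [2, 4, 6, 4, 6, 2, 4, 6, 4, 6, 2, 4, 6, 4, 6, 2, 4, 6, 4, 6, 2,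 4, 6, 4, 6, 8, 2, 4, 6, 4, 6, 2, 4, 6, 4, 6, 2, 4, 6, 4, 6, 2, 4, 6, 4, 6, 2, 4, 6, 4, 6, 8, 2, 4, 6, 4, 6, 2, 4, 6, 4, 6, 2, 4, 6, 4, 6, 2, 4, 6, 4, 6, 2, 4, 6, 4, 6, 8]] from AllP.cons r1 (AllP.cons r2 (AllP.cons r3 (AllP.cons r4 (AllP.cons r5 (AllP.cons r6 (AllP.cons r7 (AllP.cons r8 (AllP.cons r9 (AllP.cons r10 (AllP.cons r11 (AllP.cons r12 (AllP.cons r13 (AllP.cons r14 (AllP.cons r15 (AllP.cons r16 (AllP.cons r17 (AllP.cons r18 (AllP.cons r19 (AllP.cons r20 (AllP.cons r21 (AllP.cons r22 (AllP.cons r23 (AllP.cons r24 (AllP.nil))))))))))))))))))))))))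

open Cfsg.Lie

def e : chevG2.Idx ≃ Fin 14 := finSumFinEquiv (m := 2) (n := 12)

theorem ent1 : ∀ j : Fin 4, ∀ r c : chevG2.Idx,
    (dig A.B (A.mat (nth A.idT T0 (2 * (2 * j))) (e r) (e c)) 0 : ℤ) % A.p =
      ((xl chevG2 ⟨4 + j, by show _ < 12; omega⟩ r c).map fun km => km.2 * 1).sum % A.p ∧
    (dig A.B (A.mat (nth A.idT T0 (2 * (2 * j))) (e r) (e c)) 1 : ℤ) % A.p =
      ((xl chevG2 ⟨4 + j, by show _ < 12; omega⟩ r c).map fun km => km.2 * 0).sum % A.p := by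
  decide +kernel

theorem ent2 : ∀ j : Fin 4, ∀ r c : chevG2.Idx,
    (dig A.B (A.mat (nth A.idT T0 (2 * (2 * j + 1))) (e r) (e c)) 0 : ℤ) % A.p =
      ((xl chevG2 ⟨4 + j, by show _ < 12; omega⟩ r c).map fun km => km.2 * pwA km.1).sum % A.p ∧
    (dig A.B (A.mat (nth A.idT T0 (2 * (2 * j + 1))) (e r) (e c)) 1 : ℤ) % A.p =
      ((xl chevG2 ⟨4 + j, by show _ < 12; omega⟩ r c).map fun km => km.2 * pwB km.1).sum % A.p := by
  decide +kernel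

theorem iso {F : Type} [Field F] [Fintype F] (hF : Fintype.card F = 4) :
    Nonempty (G1365.P ≃* chevG2.group F) := by
  obtain ⟨ω, hω⟩ := exists_omega (F := F) (by rw [hF])
  let X : Ctx A F chevG2.Idx :=
    Ctx.f4 A e (cast_eq_zero_of_card (k := 2) hF) ω hω (by decide +kernel)
  let ρ : chevG2.group F →* Matrix chevG2.Idx chevG2.Idx F :=
    (Units.coeHom _).comp (chevG2.group F).subtype
  have hρ : Function.Injective ρ := Units.val_injective.comp Subtype.val_injective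
  have h0 : ∀ j < 8, ∃ g, ρ g = X.mats T0 (2 * j) := fun j hj => by
    obtain ⟨g, hg⟩ := Ctx.exists_GL (X := X) gens0 j hj
    refine ⟨⟨g, Subgroup.subset_closure ?_⟩, hg⟩
    obtain ⟨i, rfl | rfl⟩ := Nat.even_or_odd' j
    · exact ⟨⟨4 + i, by show _ < 12; omega⟩, 1, hg.trans (Ctx.eq_mk'_two rfl _ _
        (fun r c => (xMat_xl _ _ _ _ r c).trans (sum_monomials (a := fun _ => 1) (b := fun _ => 0)
          (by simp) _)) (ent1 ⟨i, by omega⟩)).symm⟩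
    · exact ⟨⟨4 + i, by show _ < 12; omega⟩, ω, hg.trans (Ctx.eq_mk'_two rfl _ _
        (fun r c => (xMat_xl _ _ _ _ r c).trans (sum_monomials (omega_pow hω) _))
          (ent2 ⟨i, by omega⟩)).symm⟩
  have hc := Ctx.codA_gen (X := X) (ρ := ρ) gensOk fun j hj =>
    ⟨_, (Ctx.codA_gen gens0 h0).map_ev_eq ((allN_iff _ _).mp wd j hj)⟩
  exact iso_of_simple' G1365.bound (by norm_num) G1365.cert.pres (hc.pres hρ rels) G1365.lbP
    G1365.simpleP (hc.ne_one ne) (Cfsg.Agent.S1059.result hF)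

end Cfsg.Agent.Spor.G24M
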